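import Mathlib

/-!
Quasi-finiteness at a point of a morphism of affine schemes.
-/

set_option autoImplicit false

namespace Groth.Agent.Unram

open AlgebraicGeometry CategoryTheory

universe u

set_option backward.isDefEq.respectTransparency false in
theorem quasiFiniteAt_specMap {R S : CommRingCat.{u}} (φ : R ⟶ S) (x : PrimeSpectrum S)
    (h : φ.hom.QuasiFiniteAt x.asIdeal) : (Spec.map φ).QuasiFiniteAt x := by
  algebraize [φ.hom]
  let := Localization.AtPrime.algebraOfLiesOver (x.asIdeal.under R) x.asIdeal
  haveI : Algebra.QuasiFinite R (Localization.AtPrime x.asIdeal) := h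
  have h' : Algebra.QuasiFinite (Localization.AtPrime (x.asIdeal.under R)) (Localization.AtPrime x.asIdeal) :=
    .of_restrictScalars R _ _
  rw [← RingHom.quasiFinite_algebraMap] at h'
  exact (RingHom.QuasiFinite.respectsIso.arrow_mk_iso_iff (Scheme.arrowStalkMapSpecIso φ x)).mpr h'

end Groth.Agent.Unram
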