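import Mathlib

/-!
The locus of agreement of two morphisms into an unramified scheme.
-/

set_option autoImplicit false

namespace Groth.Agent.Unram

open AlgebraicGeometry CategoryTheory CategoryTheory.Limits

universe u

variable {X Y S : Scheme.{u}} (h : Y ⟶ S) [FormallyUnramified h] [LocallyOfFiniteType h] (f g : X ⟶ Y)
  (w : g ≫ h = f ≫ h)

include w in
theorem exists_eqLocus (s : S) (hs : (f ≫ h).fiberι s ≫ f = (f ≫ h).fiberι s ≫ g) :
    ∃ E : X.Opens, E.ι ≫ f = E.ι ≫ g ∧ (∀ x : X, (f ≫ h).base x = s → x ∈ E) ∧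
      (IsSeparated h → IsClosed (E : Set X)) := by
  let l : X ⟶ pullback h h := pullback.lift f g w.symm
  let Δ := pullback.diagonal h
  haveI : IsOpenImmersion Δ := inferInstance
  refine ⟨l ⁻¹ᵁ Δ.opensRange, ?_, fun x hx => ?_, fun hsep => ?_⟩
  · have hr : Set.range ((l ⁻¹ᵁ Δ.opensRange).ι ≫ l) ⊆ Set.range Δ := by
      rintro _ ⟨z, rfl⟩
      exact z.2
    let k := IsOpenImmersion.lift Δ _ hr
    have hk : k ≫ Δ = (l ⁻¹ᵁ Δ.opensRange).ι ≫ l := IsOpenImmersion.lift_fac _ _ _
    have h1 := congrArg (· ≫ pullback.fst h h) hk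
    have h2 := congrArg (· ≫ pullback.snd h h) hk
    simp only [Δ, l, Category.assoc, pullback.diagonal_fst, pullback.diagonal_snd, pullback.lift_fst,
      pullback.lift_snd, Category.comp_id] at h1 h2
    exact h1.symm.trans h2
  · obtain ⟨z, hz⟩ : x ∈ Set.range ((f ≫ h).fiberι s) := by rw [Scheme.Hom.range_fiberι]; exact hx
    have hl : (f ≫ h).fiberι s ≫ l = ((f ≫ h).fiberι s ≫ f) ≫ Δ := by
      apply pullback.hom_ext
      · simp only [l, Δ, Category.assoc]
        erw [pullback.lift_fst, pullback.diagonal_fst, Category.comp_id]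
      · simp only [l, Δ, Category.assoc]
        erw [pullback.lift_snd, pullback.diagonal_snd, Category.comp_id]
        exact hs.symm
    refine ⟨((f ≫ h).fiberι s ≫ f) z, ?_⟩
    rw [← Scheme.Hom.comp_apply, ← hl, Scheme.Hom.comp_apply, hz]
  · haveI := hsep
    exact (Δ.isClosedEmbedding.isClosed_range).preimage l.continuous

theorem restrict_eq {E V : X.Opens} (hVE : V ≤ E) (hE : E.ι ≫ f = E.ι ≫ g) : V.ι ≫ f = V.ι ≫ g := by
  rw [← X.homOfLE_ι hVE, Category.assoc, Category.assoc, hE]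

end Groth.Agent.Unram
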